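import Groth.Agent.QCohBase.Noetherian
import Groth.Agent.QCohBase.Qcqs
import Groth.Prelude.Def_CohB1

/-!
# Finite type quasi-coherent submodules on quasi-separated schemes
-/

noncomputable section

universe u

open CategoryTheory Limits AlgebraicGeometry Opposite TopologicalSpace Groth.Agent.QCohBase

namespace Groth.Agent.QCohExt

variable {X : Scheme.{u}}

/-- finitely generated sections on every affine open inside `P` -/
def FTOn (K : X.Modules) (P : X.Opens) : Prop :=
  ∀ A : X.Opens, IsAffineOpen A → A ≤ P → Module.Finite Γ(X, A) Γ(K, A)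

lemma FTOn.bot (K : X.Modules) : FTOn K ⊥ := by
  intro A _ hle
  haveI : Subsingleton Γ(K, A) := subsingleton_of_forall_eq 0 fun s =>
    eq_of_iSup_le K (fun i : Empty => (i.elim : X.Opens)) (fun i => i.elim)
      (fun x hx => (hle hx).elim) _ _ fun i => i.elim
  exact Module.Finite.of_finite

/-- a map out of a quasi-coherent module which kills the sections on an affine open kills those below it -/
lemma app_eq_zero_of_le {K T : X.Modules} [K.IsQuasicoherent] (φ : K ⟶ T) {D : X.Opens}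
    (hD : IsAffineOpen D) (h : ∀ x, φ.app D x = 0) {W : X.Opens} (hW : W ≤ D) (s : Γ(K, W)) :
    φ.app W s = 0 := by
  have key : ∀ x : W, ∃ g : Γ(X, D), X.basicOpen g ≤ W ∧ x.1 ∈ X.basicOpen g :=
    fun x => hD.exists_basicOpen_le ⟨x.1, x.2⟩ (hW x.2)
  choose g hgW hxg using key
  refine eq_of_iSup_le T (fun x : W => X.basicOpen (g x)) hgW
    (fun x hx => Opens.mem_iSup.2 ⟨⟨x, hx⟩, hxg ⟨x, hx⟩⟩) _ _ fun x => ?_
  rw [map_zero, app_nat]
  obtain ⟨n, y, hy⟩ := exists_pow_smul_eq_mres K hD (g x) rfl (X.basicOpen_le _) (mres K (hgW x) s)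
  have h1 : ores (X.basicOpen_le (g x)) (g x) ^ n • φ.app _ (mres K (hgW x) s) = 0 := by
    rw [← Scheme.Modules.Hom.app_smul, ← hy, ← app_nat, h, map_zero]
  have hu : IsUnit (ores (X.basicOpen_le (g x)) (g x) ^ n) :=
    (X.toRingedSpace.isUnit_res_basicOpen (g x)).pow n
  exact hu.smul_eq_zero.1 h1

/-- sections over an open in the kernel of a map vanishing there -/
lemma app_ι_bijective {K T : X.Modules} (φ : K ⟶ T) {W : X.Opens} (h : ∀ s, φ.app W s = 0) :
    Function.Bijective ((kernel.ι φ).app W) := by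
  refine ⟨app_injective_of_mono _ _, fun s => ?_⟩
  let S : ShortComplex X.Modules := ShortComplex.mk (kernel.ι φ) φ (kernel.condition _)
  haveI : Mono S.f := inferInstanceAs (Mono (kernel.ι φ))
  exact sections_exact_left (T := S) (ShortComplex.exact_of_f_is_kernel _ (kernelIsKernel _)) s (h s)

lemma finite_of_bijective {K K' : X.Modules} (i : K' ⟶ K) (A : X.Opens)
    (h : Function.Bijective (i.app A)) (hf : Module.Finite Γ(X, A) Γ(K, A)) :
    Module.Finite Γ(X, A) Γ(K', A) :=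
  haveI := hf
  Module.Finite.equiv (LinearEquiv.ofBijective (appL i A) h).symm

variable [QuasiSeparatedSpace X]

lemma isQuasicoherent_kernel_extMap (K : X.Modules) [K.IsQuasicoherent] {V : X.Opens}
    (hV : IsAffineOpen V) (N : Submodule Γ(X, V) Γ(K, V)) :
    (kernel (extMap K hV N)).IsQuasicoherent :=
  isQuasicoherent_kernel _ (by assumption) (isQuasicoherent_pushforward _ hV.fromSpec)

/-- One step: shrink to a submodule of finite type on a further affine open. -/
theorem exists_sub_step' (K : X.Modules) [K.IsQuasicoherent] {P : X.Opens}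
    {V : X.Opens} (hW : IsCompact ((P ⊓ V : X.Opens) : Set X)) (hK : FTOn K P)
    (hV : IsAffineOpen V) (S : Finset Γ(K, V)) :
    ∃ (K' : X.Modules) (i : K' ⟶ K), Mono i ∧ K'.IsQuasicoherent ∧ FTOn K' (P ⊔ V) ∧
      (∀ W : X.Opens, W ≤ P → Function.Bijective (i.app W)) ∧
      ∀ s ∈ S, s ∈ Set.range (i.app V) := by
  classical
  have key : ∀ x : (P ⊓ V : X.Opens), ∃ g : Γ(X, V), X.basicOpen g ≤ P ⊓ V ∧ x.1 ∈ X.basicOpen g :=
    fun x => hV.exists_basicOpen_le ⟨x.1, x.2⟩ x.2.2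
  choose g hgW hxg using key
  obtain ⟨t, ht⟩ := hW.elim_finite_subcover (fun x : (P ⊓ V : X.Opens) => (X.basicOpen (g x) : Set X))
    (fun x => (X.basicOpen (g x)).2) (fun x hx => Set.mem_iUnion.2 ⟨⟨x, hx⟩, hxg ⟨x, hx⟩⟩)
  choose gen hgen using fun x : (P ⊓ V : X.Opens) =>
    (hK _ (hV.basicOpen (g x)) ((hgW x).trans inf_le_left)).fg_top
  choose n y hy using fun (x : (P ⊓ V : X.Opens)) (z : Γ(K, X.basicOpen (g x))) =>
    exists_pow_smul_eq_mres K hV (g x) rfl (X.basicOpen_le _) z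
  let N : Submodule Γ(X, V) Γ(K, V) :=
    Submodule.span _ (↑(S ∪ t.biUnion fun x => (gen x).image (y x)) : Set Γ(K, V))
  have hmemN : ∀ s ∈ N, (extMap K hV N).app V s = 0 := fun s hs => (extMap_apply_eq_zero_iff K hV N s).2 hs
  have hD : ∀ x ∈ t, ∀ z, (extMap K hV N).app (X.basicOpen (g x)) z = 0 := by
    intro x hx z
    have hz : z ∈ Submodule.span Γ(X, X.basicOpen (g x)) (gen x : Set Γ(K, X.basicOpen (g x))) :=
      (hgen x).symm ▸ Submodule.mem_top
    induction hz using Submodule.span_induction with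
    | mem a ha =>
      have h1 : ores (X.basicOpen_le (g x)) (g x) ^ n x a • (extMap K hV N).app _ a = 0 := by
        rw [← Scheme.Modules.Hom.app_smul, ← hy, ← app_nat,
          hmemN _ (Submodule.subset_span (Finset.mem_coe.2 (Finset.mem_union_right _
            (Finset.mem_biUnion.2 ⟨x, hx, Finset.mem_image_of_mem _ ha⟩)))), map_zero]
      have hu : IsUnit (ores (X.basicOpen_le (g x)) (g x) ^ n x a) :=
        (X.toRingedSpace.isUnit_res_basicOpen (g x)).pow _
      exact hu.smul_eq_zero.1 h1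
    | zero => exact map_zero _
    | add a b _ _ iha ihb => rw [map_add, iha, ihb, add_zero]
    | smul r a _ iha => rw [Scheme.Modules.Hom.app_smul, iha, smul_zero]
  have hzero : ∀ W : X.Opens, W ≤ P → ∀ s, (extMap K hV N).app W s = 0 := by
    intro W hWP s
    let T := (Scheme.Modules.pushforward hV.fromSpec).obj
      (tilde (ModuleCat.of Γ(X, V) (Γ(K, V) ⧸ N)))
    have hpre : hV.fromSpec ⁻¹ᵁ W ≤ hV.fromSpec ⁻¹ᵁ (W ⊓ V) :=
      fun p hp => ⟨hp, hV.range_fromSpec ▸ ⟨p, rfl⟩⟩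
    have hinj : Function.Injective (mres T (inf_le_left : W ⊓ V ≤ W)) := by
      refine Function.LeftInverse.injective
        (g := fun z => mres (tilde (ModuleCat.of Γ(X, V) (Γ(K, V) ⧸ N))) hpre z) fun z => ?_
      show mres (tilde (ModuleCat.of Γ(X, V) (Γ(K, V) ⧸ N))) hpre
        (mres (tilde (ModuleCat.of Γ(X, V) (Γ(K, V) ⧸ N))) (fun p (hp : hV.fromSpec p ∈ (W ⊓ V : X.Opens)) => hp.1) z) = z
      rw [mres_mres, mres_refl]
    apply hinj
    rw [map_zero, app_nat]
    refine eq_of_iSup_le T (fun x : t => W ⊓ V ⊓ X.basicOpen (g x.1)) (fun x => inf_le_left)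
      (fun q hq => ?_) _ _ fun x => ?_
    · obtain ⟨x, hx, hqx⟩ := Set.mem_iUnion₂.1 (ht ⟨hWP hq.1, hq.2⟩)
      exact Opens.mem_iSup.2 ⟨⟨x, hx⟩, hq, hqx⟩
    · rw [map_zero, app_nat]
      exact app_eq_zero_of_le (extMap K hV N) (hV.basicOpen _) (hD x.1 x.2) inf_le_right _
  have hbij : ∀ W : X.Opens, W ≤ P → Function.Bijective ((kernel.ι (extMap K hV N)).app W) :=
    fun W hWP => app_ι_bijective _ (hzero W hWP)
  have hmem : ∀ s ∈ N, s ∈ Set.range ((kernel.ι (extMap K hV N)).app V) := fun s hs => by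
    let T : ShortComplex X.Modules := ShortComplex.mk _ (extMap K hV N) (kernel.condition _)
    haveI : Mono T.f := inferInstanceAs (Mono (kernel.ι (extMap K hV N)))
    exact sections_exact_left (T := T) (ShortComplex.exact_of_f_is_kernel _ (kernelIsKernel _)) s (hmemN s hs)
  have hfinV : Module.Finite Γ(X, V) Γ(kernel (extMap K hV N), V) := by
    have hrange : LinearMap.range (appL (kernel.ι (extMap K hV N)) V) = N := by
      refine le_antisymm ?_ hmem
      rintro _ ⟨a, rfl⟩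
      refine (extMap_apply_eq_zero_iff K hV N _).1 ?_
      rw [appL_apply, ← ConcreteCategory.comp_apply, ← Scheme.Modules.Hom.comp_app, kernel.condition]
      rfl
    haveI : Module.Finite Γ(X, V) N := Module.Finite.iff_fg.2 ⟨_, rfl⟩
    exact Module.Finite.equiv ((LinearEquiv.ofInjective (appL (kernel.ι (extMap K hV N)) V)
      (app_injective_of_mono _ _)).trans (LinearEquiv.ofEq _ _ hrange)).symm
  haveI hq := isQuasicoherent_kernel_extMap K hV N
  refine ⟨_, kernel.ι _, inferInstance, hq, ?_, hbij, fun s hs => hmem s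
    (Submodule.subset_span (Finset.mem_coe.2 (Finset.mem_union_left _ hs)))⟩
  intro A hA hAPV
  have key2 : ∀ q : A, ∃ f : Γ(X, A), q.1 ∈ X.basicOpen f ∧
      Module.Finite Γ(X, X.basicOpen f) Γ(kernel (extMap K hV N), X.basicOpen f) := by
    rintro ⟨q, hq'⟩
    rcases hAPV hq' with hqP | hqV
    · obtain ⟨f, hf, hqf⟩ := hA.exists_basicOpen_le ⟨q, hqP⟩ hq'
      exact ⟨f, hqf, finite_of_bijective _ _ (hbij _ hf) (hK _ (hA.basicOpen f) hf)⟩
    · obtain ⟨f, f', he, hqf⟩ := exists_basicOpen_le_affine_inter hA hV q ⟨hq', hqV⟩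
      exact ⟨f, hqf, he ▸ finite_basicOpen _ hV f' hfinV⟩
  choose f hqf hffin using key2
  obtain ⟨t', ht'⟩ := hA.isCompact.elim_finite_subcover (fun q : A => (X.basicOpen (f q) : Set X))
    (fun q => (X.basicOpen (f q)).2) (fun q hq' => Set.mem_iUnion.2 ⟨⟨q, hq'⟩, hqf ⟨q, hq'⟩⟩)
  refine finite_of_basicOpen_cover _ hA (fun k : t' => f k.1) (fun q hq' => ?_) fun k => hffin _
  obtain ⟨j, hj, hqj⟩ := Set.mem_iUnion₂.1 (ht' hq')
  exact Opens.mem_iSup.2 ⟨⟨j, hj⟩, hqj⟩

/-- One step, from a compact open. -/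
theorem exists_sub_step (K : X.Modules) [K.IsQuasicoherent] {P : X.Opens}
    (hP : IsCompact (P : Set X)) (hK : FTOn K P) {V : X.Opens} (hV : IsAffineOpen V)
    (S : Finset Γ(K, V)) :
    ∃ (K' : X.Modules) (i : K' ⟶ K), Mono i ∧ K'.IsQuasicoherent ∧ FTOn K' (P ⊔ V) ∧
      (∀ W : X.Opens, W ≤ P → Function.Bijective (i.app W)) ∧
      ∀ s ∈ S, s ∈ Set.range (i.app V) :=
  exists_sub_step' K (QuasiSeparatedSpace.inter_isCompact _ _ P.2 hP V.2 hV.isCompact) hK hV S

/-- Extend finite type from `P` over finitely many affine opens. -/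
theorem exists_sub (K : X.Modules) [K.IsQuasicoherent] {P : X.Opens}
    (hP : IsCompact (P : Set X)) (hK : FTOn K P) :
    ∀ (n : ℕ) (V : Fin n → X.Opens) (_ : ∀ k, IsAffineOpen (V k)),
      ∃ (K' : X.Modules) (i : K' ⟶ K), Mono i ∧ K'.IsQuasicoherent ∧ FTOn K' (P ⊔ ⨆ k, V k) ∧
        ∀ W : X.Opens, W ≤ P → Function.Bijective (i.app W) := by
  intro n
  induction n generalizing K P with
  | zero =>
    intro V _
    refine ⟨K, 𝟙 K, inferInstance, inferInstance, ?_, fun W _ => Function.bijective_id⟩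
    rwa [iSup_of_empty, sup_bot_eq]
  | succ n ih =>
    intro V hV
    obtain ⟨K₁, i₁, hm₁, hq₁, hF₁, hb₁, -⟩ := exists_sub_step K hP hK (hV 0) ∅
    haveI := hm₁
    haveI := hq₁
    obtain ⟨K₂, i₂, hm₂, hq₂, hF₂, hb₂⟩ := ih K₁ (P := P ⊔ V 0)
      (by rw [Opens.coe_sup]; exact hP.union (hV 0).isCompact) hF₁ (fun k => V k.succ) (fun k => hV _)
    haveI := hm₂
    refine ⟨K₂, i₂ ≫ i₁, mono_comp _ _, hq₂, ?_, fun W hW => ?_⟩
    · refine fun A hA hle => hF₂ A hA (hle.trans ?_)
      refine sup_le (le_sup_left.trans le_sup_left) (iSup_le fun k => ?_)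
      cases k using Fin.cases with
      | zero => exact le_sup_right.trans le_sup_left
      | succ k => exact (le_iSup (fun k : Fin n => V k.succ) k).trans le_sup_right
    · rw [Scheme.Modules.Hom.comp_app]
      exact (hb₁ W hW).comp (hb₂ W (hW.trans le_sup_left))

/-- Finite type submodules through a finite set of sections on an affine open. -/
theorem exists_sub_of_sections [CompactSpace X] (K : X.Modules) [K.IsQuasicoherent] {P : X.Opens}
    (hP : IsCompact (P : Set X)) (hK : FTOn K P) {V : X.Opens} (hV : IsAffineOpen V)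
    (S : Finset Γ(K, V)) :
    ∃ (K' : X.Modules) (i : K' ⟶ K), Mono i ∧ K'.IsQuasicoherent ∧ FTOn K' ⊤ ∧
      (∀ W : X.Opens, W ≤ P → Function.Bijective (i.app W)) ∧
      ∀ s ∈ S, s ∈ Set.range (i.app V) := by
  obtain ⟨K₁, i₁, hm₁, hq₁, hF₁, hb₁, hs₁⟩ := exists_sub_step K hP hK hV S
  haveI := hm₁
  haveI := hq₁
  obtain ⟨ι, _, U, hU, hcov⟩ := exists_finite_affine_cover' X
  cases nonempty_fintype ι
  obtain ⟨K₂, i₂, hm₂, hq₂, hF₂, hb₂⟩ := exists_sub K₁ (P := P ⊔ V)
    (by rw [Opens.coe_sup]; exact hP.union hV.isCompact) hF₁ (Fintype.card ι)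
    (fun k => U ((Fintype.equivFin ι).symm k)) (fun k => hU _)
  haveI := hm₂
  refine ⟨K₂, i₂ ≫ i₁, mono_comp _ _, hq₂, fun A hA _ => hF₂ A hA fun x _ => ?_, fun W hW => ?_, fun s hs => ?_⟩
  · obtain ⟨j, hj⟩ := hcov x
    exact Or.inr (Opens.mem_iSup.2 ⟨Fintype.equivFin ι j, by rwa [Equiv.symm_apply_apply]⟩)
  · rw [Scheme.Modules.Hom.comp_app]
    exact (hb₁ W hW).comp (hb₂ W (hW.trans le_sup_left))
  · obtain ⟨a, rfl⟩ := hs₁ s hs
    obtain ⟨b, rfl⟩ := (hb₂ V le_sup_right).2 a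
    exact ⟨b, rfl⟩

omit [QuasiSeparatedSpace X] in
/-- The sum of two finite type submodules is one. -/
theorem exists_sup {K K₀ K₁ : X.Modules} [K.IsQuasicoherent] [K₀.IsQuasicoherent] [K₁.IsQuasicoherent]
    (i₀ : K₀ ⟶ K) [Mono i₀] (i₁ : K₁ ⟶ K) [Mono i₁] (h₀ : FTOn K₀ ⊤) (h₁ : FTOn K₁ ⊤) :
    ∃ (J : X.Modules) (i : J ⟶ K), Mono i ∧ J.IsQuasicoherent ∧ FTOn J ⊤ ∧
      (∀ W, Set.range (i₀.app W) ⊆ Set.range (i.app W)) ∧
      ∀ W, Set.range (i₁.app W) ⊆ Set.range (i.app W) := by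
  let ψ : K₁ ⟶ cokernel i₀ := i₁ ≫ cokernel.π i₀
  let φ : K ⟶ cokernel ψ := cokernel.π i₀ ≫ cokernel.π ψ
  have hC : (cokernel i₀).IsQuasicoherent := isQuasicoherent_cokernel i₀ (by assumption) (by assumption)
  have hC' : (cokernel ψ).IsQuasicoherent := isQuasicoherent_cokernel ψ (by assumption) hC
  let T : ShortComplex X.Modules := ShortComplex.mk _ φ (kernel.condition φ)
  haveI : Mono T.f := inferInstanceAs (Mono (kernel.ι φ))
  have hT := ShortComplex.exact_of_f_is_kernel T (kernelIsKernel φ)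
  have hmem : ∀ {W} (s : Γ(K, W)), φ.app W s = 0 → s ∈ Set.range ((kernel.ι φ).app W) :=
    fun s hs => sections_exact_left (T := T) hT s hs
  have hr₀ : ∀ W, Set.range (i₀.app W) ⊆ Set.range ((kernel.ι φ).app W) := by
    rintro W _ ⟨a, rfl⟩
    refine hmem _ ?_
    rw [← ConcreteCategory.comp_apply, ← Scheme.Modules.Hom.comp_app, cokernel.condition_assoc, zero_comp]
    rfl
  have hr₁ : ∀ W, Set.range (i₁.app W) ⊆ Set.range ((kernel.ι φ).app W) := by
    rintro W _ ⟨a, rfl⟩
    refine hmem _ ?_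
    rw [← ConcreteCategory.comp_apply, ← Scheme.Modules.Hom.comp_app, ← Category.assoc, cokernel.condition]
    rfl
  refine ⟨_, kernel.ι φ, inferInstance, isQuasicoherent_kernel φ (by assumption) hC', fun A hA _ => ?_, hr₀, hr₁⟩
  let R := LinearMap.range (appL i₀ A) ⊔ LinearMap.range (appL i₁ A)
  have hR : LinearMap.range (appL (kernel.ι φ) A) = R := by
    refine le_antisymm ?_ (sup_le (fun x hx => hr₀ A hx) (fun x hx => hr₁ A hx))
    rintro s ⟨b, rfl⟩
    have hs : φ.app A ((kernel.ι φ).app A b) = 0 := by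
      rw [← ConcreteCategory.comp_apply, ← Scheme.Modules.Hom.comp_app, kernel.condition]
      rfl
    let T' : ShortComplex X.Modules := ShortComplex.mk (kernel.ι (cokernel.π ψ)) (cokernel.π ψ) (kernel.condition _)
    haveI : Mono T'.f := inferInstanceAs (Mono (kernel.ι _))
    rw [Scheme.Modules.Hom.comp_app, ConcreteCategory.comp_apply] at hs
    obtain ⟨c, hc⟩ := sections_exact_left (T := T')
      (ShortComplex.exact_of_f_is_kernel _ (kernelIsKernel _)) _ hs
    obtain ⟨a, rfl⟩ := app_surjective_of_epi (Abelian.factorThruImage ψ) (by assumption)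
      (isQuasicoherent_kernel _ hC hC') hA c
    have hψ : ψ.app A a = (cokernel.π i₀).app A ((kernel.ι φ).app A b) := by
      refine Eq.trans ?_ hc
      show _ = (Abelian.image.ι ψ).app A ((Abelian.factorThruImage ψ).app A a)
      rw [← ConcreteCategory.comp_apply, ← Scheme.Modules.Hom.comp_app, Abelian.image.fac]
    rw [Scheme.Modules.Hom.comp_app, ConcreteCategory.comp_apply] at hψ
    let T'' : ShortComplex X.Modules := ShortComplex.mk i₀ (cokernel.π i₀) (cokernel.condition _)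
    haveI : Mono T''.f := inferInstanceAs (Mono i₀)
    obtain ⟨a₀, ha₀⟩ := sections_exact_left (T := T'')
      (ShortComplex.exact_of_g_is_cokernel _ (cokernelIsCokernel _))
      ((kernel.ι φ).app A b - i₁.app A a) (by
        show (cokernel.π i₀).app A _ = 0
        rw [map_sub, hψ, sub_self])
    exact Submodule.mem_sup.2 ⟨_, ⟨a₀, rfl⟩, _, ⟨a, rfl⟩, by
      rw [appL_apply, appL_apply]
      rw [show i₀.app A a₀ = _ from ha₀]
      exact sub_add_cancel _ _⟩
  haveI := h₀ A hA le_top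
  haveI := h₁ A hA le_top
  haveI : Module.Finite Γ(X, A) R := Module.Finite.iff_fg.2 (Submodule.FG.sup
    (Module.Finite.iff_fg.1 inferInstance) (Module.Finite.iff_fg.1 inferInstance))
  exact Module.Finite.equiv ((LinearEquiv.ofInjective (appL (kernel.ι φ) A)
    (app_injective_of_mono _ _)).trans (LinearEquiv.ofEq _ _ hR)).symm

/-- Finite type submodules through finitely many sections. -/
theorem exists_sub_through [CompactSpace X] (K : X.Modules) [K.IsQuasicoherent] :
    ∀ (n : ℕ) (V : Fin n → X.Opens) (_ : ∀ k, IsAffineOpen (V k)) (s : ∀ k, Γ(K, V k)),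
      ∃ (J : X.Modules) (i : J ⟶ K), Mono i ∧ J.IsQuasicoherent ∧ FTOn J ⊤ ∧
        ∀ k, s k ∈ Set.range (i.app (V k)) := by
  intro n
  induction n with
  | zero =>
    intro V _ s
    obtain ⟨ι, _, U, hU, hcov⟩ := exists_finite_affine_cover' X
    cases nonempty_fintype ι
    obtain ⟨J, i, hm, hq, hF, -⟩ := exists_sub K (P := ⊥) (by simp) (FTOn.bot K) (Fintype.card ι)
      (fun k => U ((Fintype.equivFin ι).symm k)) (fun k => hU _)
    refine ⟨J, i, hm, hq, fun A hA _ => hF A hA fun x _ => ?_, fun k => k.elim0⟩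
    obtain ⟨j, hj⟩ := hcov x
    exact Or.inr (Opens.mem_iSup.2 ⟨Fintype.equivFin ι j, by rwa [Equiv.symm_apply_apply]⟩)
  | succ n ih =>
    intro V hV s
    obtain ⟨J₀, i₀, hm₀, hq₀, hF₀, hs₀⟩ := ih (fun k => V k.castSucc) (fun k => hV _) (fun k => s k.castSucc)
    obtain ⟨J₁, i₁, hm₁, hq₁, hF₁, -, hs₁⟩ := exists_sub_of_sections K (P := ⊥) (by simp) (FTOn.bot K)
      (hV (Fin.last n)) {s (Fin.last n)}
    haveI := hm₀
    haveI := hm₁
    haveI := hq₀
    haveI := hq₁
    obtain ⟨J, i, hm, hq, hF, hr₀, hr₁⟩ := exists_sup i₀ i₁ hF₀ hF₁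
    refine ⟨J, i, hm, hq, hF, fun k => ?_⟩
    cases k using Fin.lastCases with
    | last => exact hr₁ _ (hs₁ _ (Finset.mem_singleton_self _))
    | cast k => exact hr₀ _ (hs₀ k)

/-- finite on affines is finite type -/
theorem isFT_of_FTOn_top (K : X.Modules) [K.IsQuasicoherent] (h : FTOn K ⊤) : CohB1.IsFT K :=
  isFiniteType_of_finite K fun x => by
    obtain ⟨U, hU, hxU, -⟩ := Opens.isBasis_iff_nbhd.1 X.isBasis_affineOpens (U := ⊤) (Opens.mem_top x)
    exact ⟨U, hU, hxU, h U hU le_top⟩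

end Groth.Agent.QCohExt
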