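import Mathlib
import Groth.Agent.QCohExt.Basic
import Groth.Prelude.Def_RelSpec

/-!
# Finite type submodules generating a finite type algebra
-/

noncomputable section

universe u

open CategoryTheory Limits AlgebraicGeometry Opposite TopologicalSpace Groth.Agent.QCohBase

namespace Groth.Agent.QCohExt

variable {X : Scheme.{u}} (B : RelSpec.QCAlg X)

lemma mres_toModule {V W : X.Opens} (h : W ≤ V) (s : B.presheaf.obj (op V)) :
    mres B.toModule h (show Γ(B.toModule, V) from s) = B.presheaf.map (homOfLE h).op s := rfl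

lemma smul_toModule {V : X.Opens} (r : Γ(X, V)) (s : B.presheaf.obj (op V)) :
    r • (show Γ(B.toModule, V) from s) = B.str.app (op V) r * s := rfl

lemma str_res {V W : X.Opens} (h : W ≤ V) (r : Γ(X, V)) :
    B.presheaf.map (homOfLE h).op (B.str.app (op V) r) = B.str.app (op W) (ores h r) :=
  (ConcreteCategory.congr_hom (B.str.naturality (homOfLE h).op) r).symm

/-- A quasi-coherent algebra is quasi-coherent as a module. -/
theorem isQuasicoherent_toModule : B.toModule.IsQuasicoherent :=
  isQuasicoherent_of_forall_localizesOn fun U hU f => by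
    letI := (B.presheaf.map (homOfLE (X.basicOpen_le f)).op).hom.toAlgebra
    haveI : IsLocalization.Away (B.str.app (op U) f) (B.presheaf.obj (op (X.basicOpen f))) :=
      B.isQC U hU f
    refine ⟨fun x => ?_, fun y hy => ?_⟩
    · obtain ⟨n, a, ha⟩ := IsLocalization.Away.surj (B.str.app (op U) f)
        (show B.presheaf.obj (op (X.basicOpen f)) from x)
      refine ⟨n, a, ?_⟩
      show B.presheaf.map (homOfLE (X.basicOpen_le f)).op a =
        B.str.app (op (X.basicOpen f)) (ores (X.basicOpen_le f) f ^ n) * _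
      rw [map_pow, ← str_res B (X.basicOpen_le f), mul_comm]
      exact ha.symm
    · obtain ⟨⟨_, n, rfl⟩, hn⟩ := (IsLocalization.map_eq_zero_iff
        (Submonoid.powers (B.str.app (op U) f)) (B.presheaf.obj (op (X.basicOpen f)))
        (show B.presheaf.obj (op U) from y)).1 hy
      refine ⟨n, ?_⟩
      show B.str.app (op U) (f ^ n) * _ = 0
      rw [map_pow]
      exact hn

/-- the subring generated by scalars and a submodule -/
def gen (E : X.Modules) (j : E ⟶ B.toModule) (U : X.Opens) : Subring (B.presheaf.obj (op U)) :=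
  Subring.closure (Set.range (B.str.app (op U)).hom ∪
    Set.range (fun e : E.val.obj (op U) ↦
      (show B.presheaf.obj (op U) from (j.val.app (op U)).hom e)))

variable [QuasiSeparatedSpace X]

theorem exists_generating [CompactSpace X]
    (hB : ∀ U : X.affineOpens, (B.str.app (op (U : X.Opens))).hom.FiniteType) :
    ∃ (E : X.Modules) (j : E ⟶ B.toModule), Mono j ∧ Coh.IsQCoh E ∧ CohB1.IsFT E ∧
      ∀ U : X.affineOpens, gen B E j U = ⊤ := by
  classical
  haveI := isQuasicoherent_toModule B
  obtain ⟨ι, _, V, hV, hcov⟩ := exists_finite_affine_cover' X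
  have hgen : ∀ k, ∃ s : Finset (B.presheaf.obj (op (V k))),
      Subring.closure (Set.range (B.str.app (op (V k))).hom ∪ (s : Set _)) = ⊤ := fun k => by
    letI := (B.str.app (op (V k))).hom.toAlgebra
    obtain ⟨s, hs⟩ := (hB ⟨V k, hV k⟩ : Algebra.FiniteType _ _).out
    refine ⟨s, ?_⟩
    have := congrArg Subalgebra.toSubring hs
    rw [Algebra.adjoin_eq_ring_closure, Algebra.top_toSubring] at this
    exact this
  choose gs hgs using hgen
  haveI : Finite (Σ k, gs k) := inferInstance
  cases nonempty_fintype (Σ k, gs k)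
  let e := (Fintype.equivFin (Σ k, gs k)).symm
  obtain ⟨E, j, hj, hq, hF, hmem⟩ := exists_sub_through B.toModule (Fintype.card (Σ k, gs k))
    (fun n => V (e n).1) (fun n => hV _) (fun n => (show Γ(B.toModule, V (e n).1) from ((e n).2 : B.presheaf.obj (op (V (e n).1)))))
  haveI := hj
  haveI := hq
  refine ⟨E, j, hj, hq, isFT_of_FTOn_top E hF, fun U => ?_⟩
  have hgenV : ∀ k, gen B E j (V k) = ⊤ := fun k => by
    rw [eq_top_iff, ← hgs k, Subring.closure_le]
    rintro x (hx | hx)
    · exact Subring.subset_closure (Or.inl hx)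
    · obtain ⟨n, hn⟩ := e.surjective ⟨k, x, hx⟩
      have h := hmem n
      rw [hn] at h
      exact Subring.subset_closure (Or.inr h)
  rw [eq_top_iff]
  intro b _
  let I : Ideal Γ(X, U.1) :=
    { carrier := {r | B.str.app (op U.1) r * b ∈ gen B E j U.1}
      add_mem' := fun {r s} hr hs => by
        show B.str.app (op U.1) (r + s) * b ∈ gen B E j U.1
        rw [map_add, add_mul]; exact add_mem hr hs
      zero_mem' := by
        show B.str.app (op U.1) 0 * b ∈ gen B E j U.1
        rw [map_zero, zero_mul]; exact zero_mem _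
      smul_mem' := fun c r hr => by
        show B.str.app (op U.1) (c * r) * b ∈ gen B E j U.1
        rw [map_mul, mul_assoc]
        exact mul_mem (Subring.subset_closure (Or.inl ⟨c, rfl⟩)) hr }
  suffices hI : I = ⊤ by
    have h1 : (1 : Γ(X, U.1)) ∈ I := hI ▸ Submodule.mem_top
    have h2 : B.str.app (op U.1) (1 : Γ(X, U.1)) * b ∈ gen B E j U.1 := h1
    rwa [map_one, one_mul] at h2
  by_contra hne
  obtain ⟨m, hm, hIm⟩ := Ideal.exists_le_maximal I hne
  let P : Spec Γ(X, U.1) := ⟨m, hm.isPrime⟩
  have hxU : U.2.fromSpec P ∈ U.1 := SetLike.mem_coe.1 (U.2.range_fromSpec ▸ ⟨P, rfl⟩)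
  obtain ⟨k, hxk⟩ := hcov (U.2.fromSpec P)
  obtain ⟨g, f, hgf, hxg⟩ := exists_basicOpen_le_affine_inter U.2 (hV k) _ ⟨hxU, hxk⟩
  have hgm : g ∉ m := by
    have h : P ∈ U.2.fromSpec ⁻¹ᵁ X.basicOpen g := hxg
    rw [U.2.fromSpec_preimage_basicOpen] at h
    exact h
  let D := X.basicOpen g
  have hDU : D ≤ U.1 := X.basicOpen_le g
  have hDV : D ≤ V k := hgf.le.trans (X.basicOpen_le f)
  -- powers of `g` move everything on `D` into the subring of `U`
  let S : Subring (B.presheaf.obj (op D)) :=
    { carrier := {y | ∃ (n : ℕ) (a : B.presheaf.obj (op U.1)), a ∈ gen B E j U.1 ∧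
        B.presheaf.map (homOfLE hDU).op a = B.str.app (op D) (ores hDU g ^ n) * y}
      zero_mem' := ⟨0, 0, zero_mem _, by simp⟩
      one_mem' := ⟨0, 1, one_mem _, by simp⟩
      add_mem' := by
        rintro y y' ⟨n, a, ha, e⟩ ⟨n', a', ha', e'⟩
        refine ⟨n + n', B.str.app (op U.1) (g ^ n') * a + B.str.app (op U.1) (g ^ n) * a',
          add_mem (mul_mem (Subring.subset_closure (Or.inl ⟨_, rfl⟩)) ha)
            (mul_mem (Subring.subset_closure (Or.inl ⟨_, rfl⟩)) ha'), ?_⟩
        rw [map_add, map_mul, map_mul, str_res B hDU, str_res B hDU, e, e']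
        simp only [map_pow]
        ring
      neg_mem' := by
        rintro y ⟨n, a, ha, e⟩
        exact ⟨n, -a, neg_mem ha, by rw [map_neg, e, mul_neg]⟩
      mul_mem' := by
        rintro y y' ⟨n, a, ha, e⟩ ⟨n', a', ha', e'⟩
        refine ⟨n + n', a * a', mul_mem ha ha', ?_⟩
        rw [map_mul, e, e', pow_add, map_mul]
        ring }
  have hSstr : ∀ r : Γ(X, D), B.str.app (op D) r ∈ S := fun r => by
    haveI := U.2.isLocalization_basicOpen g
    obtain ⟨n, c, hc⟩ := IsLocalization.Away.surj g r
    refine ⟨n, B.str.app (op U.1) c, Subring.subset_closure (Or.inl ⟨c, rfl⟩), ?_⟩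
    rw [str_res B hDU, ← map_mul]
    congr 1
    exact hc.symm.trans (mul_comm _ _)
  have hSE : ∀ z : Γ(E, D), (show B.presheaf.obj (op D) from j.app D z) ∈ S := fun z => by
    obtain ⟨n, y, hy⟩ := exists_pow_smul_eq_mres E U.2 g rfl hDU z
    refine ⟨n, j.app U.1 y, Subring.subset_closure (Or.inr ⟨y, rfl⟩), ?_⟩
    show mres B.toModule hDU (j.app U.1 y) = (ores hDU g ^ n) • j.app D z
    rw [app_nat, hy, Scheme.Modules.Hom.app_smul]
  have hSV : ∀ c : B.presheaf.obj (op (V k)), B.presheaf.map (homOfLE hDV).op c ∈ S := fun c => by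
    have hc : c ∈ gen B E j (V k) := (hgenV k).symm ▸ Subring.mem_top c
    induction hc using Subring.closure_induction with
    | mem x hx =>
      rcases hx with ⟨r, rfl⟩ | ⟨z, rfl⟩
      · rw [str_res B hDV]; exact hSstr _
      · have : B.presheaf.map (homOfLE hDV).op (show B.presheaf.obj (op (V k)) from j.app (V k) z) =
            (show B.presheaf.obj (op D) from j.app D (mres E hDV z)) := app_nat j hDV z
        exact this ▸ hSE _
    | zero => rw [map_zero]; exact zero_mem S
    | one => rw [map_one]; exact one_mem S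
    | add x y _ _ ihx ihy => rw [map_add]; exact add_mem ihx ihy
    | neg x _ ih => rw [map_neg]; exact neg_mem ih
    | mul x y _ _ ihx ihy => rw [map_mul]; exact mul_mem ihx ihy
  obtain ⟨N, c, hc⟩ := exists_pow_smul_eq_mres B.toModule (hV k) f hgf hDV
    (mres B.toModule hDU (show Γ(B.toModule, U.1) from b))
  have hbS : B.presheaf.map (homOfLE hDU).op b ∈ S := by
    have hu : IsUnit (ores hDV f ^ N) := by
      refine IsUnit.pow _ ?_
      have h1 : IsUnit (ores (X.basicOpen_le f) f) := RingedSpace.isUnit_res_basicOpen _ f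
      have h2 := h1.map (ores hgf.le)
      rwa [ores_ores] at h2
    have h3 := mul_mem (hSstr hu.unit⁻¹.1) (hSV c)
    have h4 : B.presheaf.map (homOfLE hDV).op c =
        B.str.app (op D) (ores hDV f ^ N) * B.presheaf.map (homOfLE hDU).op b := hc
    rwa [h4, ← mul_assoc, ← map_mul, IsUnit.val_inv_mul, map_one, one_mul] at h3
  obtain ⟨n, a, ha, he⟩ := hbS
  rw [map_pow, ← str_res B hDU, ← map_pow, ← map_mul] at he
  have hz : mres B.toModule hDU (show Γ(B.toModule, U.1) from (a - B.str.app (op U.1) g ^ n * b)) = 0 := by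
    rw [mres_toModule, map_sub, he, sub_self]; rfl
  obtain ⟨l, hl⟩ := exists_pow_smul_eq_zero B.toModule U.2 g rfl hDU _ hz
  have hl' : B.str.app (op U.1) (g ^ l) * (a - B.str.app (op U.1) g ^ n * b) = 0 := hl
  have hmemI : g ^ (l + n) ∈ I := by
    show B.str.app (op U.1) (g ^ (l + n)) * b ∈ gen B E j U.1
    rw [mul_sub, sub_eq_zero] at hl'
    rw [map_pow, pow_add, mul_assoc, ← map_pow, ← hl']
    exact mul_mem (Subring.subset_closure (Or.inl ⟨_, rfl⟩)) ha
  exact hgm (hm.isPrime.mem_of_pow_mem _ (hIm hmemI))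

end Groth.Agent.QCohExt
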