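import Mathlib
import Groth.Agent.QCohExt.Algebra
import Groth.Prelude.Def_RelSpec

/-!
# Quasi-coherent subalgebras from compatible subrings
-/

noncomputable section

universe u

open CategoryTheory Limits AlgebraicGeometry Opposite TopologicalSpace Groth.Agent.QCohBase

namespace Groth.Agent.QCohExt

variable {S : Scheme.{u}} {B : RelSpec.QCAlg S}

/-- Restriction of sections of a quasi-coherent algebra. -/
abbrev ares (B : RelSpec.QCAlg S) {V W : S.Opens} (h : W ≤ V) :
    B.presheaf.obj (op V) →+* B.presheaf.obj (op W) :=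
  (B.presheaf.map (homOfLE h).op).hom

lemma ares_ares {U V W : S.Opens} (h : V ≤ U) (h' : W ≤ V) (s : B.presheaf.obj (op U)) :
    ares B h' (ares B h s) = ares B (h'.trans h) s :=
  (ConcreteCategory.congr_hom (B.presheaf.map_comp (homOfLE h).op (homOfLE h').op) s).symm

lemma ares_refl {U : S.Opens} (h : U ≤ U) (s : B.presheaf.obj (op U)) : ares B h s = s :=
  ConcreteCategory.congr_hom (B.presheaf.map_id (op U)) s

lemma ares_str {V W : S.Opens} (h : W ≤ V) (r : Γ(S, V)) :
    ares B h (B.str.app (op V) r) = B.str.app (op W) (ores h r) := str_res B h r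

/-- A compatible system of subrings, determined on basic opens of affines. -/
structure SubSys (B : RelSpec.QCAlg S) where
  /-- the subrings -/
  G : ∀ U : S.Opens, Subring (B.presheaf.obj (op U))
  str_mem : ∀ (U : S.Opens) (r : Γ(S, U)), B.str.app (op U) r ∈ G U
  res_mem : ∀ {V W : S.Opens} (h : W ≤ V) {s}, s ∈ G V → ares B h s ∈ G W
  lift_mem : ∀ (U : S.Opens), IsAffineOpen U → ∀ (g : Γ(S, U)) {y},
    y ∈ G (S.basicOpen g) → ∃ (n : ℕ) (a : B.presheaf.obj (op U)), a ∈ G U ∧
      ares B (S.basicOpen_le g) a =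
        B.str.app (op (S.basicOpen g)) (ores (S.basicOpen_le g) g ^ n) * y

variable (P : SubSys B)

/-- sections locally in the subrings -/
def SubSys.Mem {U : S.Opens} (s : B.presheaf.obj (op U)) : Prop :=
  ∀ x ∈ U, ∃ (V : S.Opens) (h : V ≤ U), IsAffineOpen V ∧ x ∈ V ∧ ares B h s ∈ P.G V

lemma SubSys.mem_pair {U : S.Opens} {s t : B.presheaf.obj (op U)} (hs : P.Mem s) (ht : P.Mem t)
    (x : S) (hx : x ∈ U) : ∃ (V : S.Opens) (h : V ≤ U), IsAffineOpen V ∧ x ∈ V ∧
      ares B h s ∈ P.G V ∧ ares B h t ∈ P.G V := by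
  obtain ⟨V₁, h₁, hV₁, hx₁, hs⟩ := hs x hx
  obtain ⟨V₂, h₂, _, hx₂, ht⟩ := ht x hx
  obtain ⟨g, hg, hxg⟩ := hV₁.exists_basicOpen_le ⟨x, hx₂⟩ hx₁
  refine ⟨S.basicOpen g, hg.trans h₂, hV₁.basicOpen g, hxg, ?_, ?_⟩
  · have := P.res_mem (S.basicOpen_le g) hs
    rwa [ares_ares] at this
  · have := P.res_mem hg ht
    rwa [ares_ares] at this

/-- the subring of sections locally in the subrings -/
def SubSys.loc (U : S.Opens) : Subring (B.presheaf.obj (op U)) where
  carrier := {s | P.Mem s}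
  zero_mem' x hx := by
    obtain ⟨_, ⟨V, hV, rfl⟩, hxV, hVU⟩ := S.isBasis_affineOpens.exists_subset_of_mem_open hx U.2
    exact ⟨V, hVU, hV, hxV, by rw [map_zero]; exact zero_mem _⟩
  one_mem' x hx := by
    obtain ⟨_, ⟨V, hV, rfl⟩, hxV, hVU⟩ := S.isBasis_affineOpens.exists_subset_of_mem_open hx U.2
    exact ⟨V, hVU, hV, hxV, by rw [map_one]; exact one_mem _⟩
  add_mem' {s t} hs ht x hx := by
    obtain ⟨V, h, hV, hxV, hs, ht⟩ := P.mem_pair hs ht x hx
    exact ⟨V, h, hV, hxV, by rw [map_add]; exact add_mem hs ht⟩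
  mul_mem' {s t} hs ht x hx := by
    obtain ⟨V, h, hV, hxV, hs, ht⟩ := P.mem_pair hs ht x hx
    exact ⟨V, h, hV, hxV, by rw [map_mul]; exact mul_mem hs ht⟩
  neg_mem' {s} hs x hx := by
    obtain ⟨V, h, hV, hxV, hs⟩ := hs x hx
    exact ⟨V, h, hV, hxV, by rw [map_neg]; exact neg_mem hs⟩

lemma SubSys.loc_res {V W : S.Opens} (h : W ≤ V) {s} (hs : s ∈ P.loc V) :
    ares B h s ∈ P.loc W := fun x hx => by
  obtain ⟨U, hU, hUaff, hxU, hsU⟩ := hs x (h hx)
  obtain ⟨g, hg, hxg⟩ := hUaff.exists_basicOpen_le ⟨x, hx⟩ hxU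
  refine ⟨S.basicOpen g, hg, hUaff.basicOpen g, hxg, ?_⟩
  have := P.res_mem (S.basicOpen_le g) hsU
  rw [ares_ares] at this
  rwa [ares_ares]

lemma SubSys.mem_loc_of_mem {U : S.Opens} {s : B.presheaf.obj (op U)} (hs : s ∈ P.G U) :
    s ∈ P.loc U := fun x hx => by
  obtain ⟨_, ⟨V, hV, rfl⟩, hxV, hVU⟩ := S.isBasis_affineOpens.exists_subset_of_mem_open hx U.2
  exact ⟨V, hVU, hV, hxV, P.res_mem _ hs⟩

/-- On affine opens nothing is added. -/
theorem SubSys.loc_eq {U : S.Opens} (hU : IsAffineOpen U) : P.loc U = P.G U := by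
  refine le_antisymm (fun s hs => ?_) fun s hs => P.mem_loc_of_mem hs
  let I : Ideal Γ(S, U) :=
    { carrier := {r | B.str.app (op U) r * s ∈ P.G U}
      add_mem' := fun {r t} hr ht => by
        show B.str.app (op U) (r + t) * s ∈ P.G U
        rw [map_add, add_mul]; exact add_mem hr ht
      zero_mem' := by
        show B.str.app (op U) 0 * s ∈ P.G U
        rw [map_zero, zero_mul]; exact zero_mem _
      smul_mem' := fun c r hr => by
        show B.str.app (op U) (c * r) * s ∈ P.G U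
        rw [map_mul, mul_assoc]; exact mul_mem (P.str_mem _ c) hr }
  suffices hI : I = ⊤ by
    have h1 : B.str.app (op U) 1 * s ∈ P.G U := (hI ▸ Submodule.mem_top : (1 : Γ(S, U)) ∈ I)
    rwa [map_one, one_mul] at h1
  by_contra hne
  obtain ⟨m, hm, hIm⟩ := Ideal.exists_le_maximal I hne
  let q : Spec Γ(S, U) := ⟨m, hm.isPrime⟩
  have hxU : hU.fromSpec q ∈ U := SetLike.mem_coe.1 (hU.range_fromSpec ▸ ⟨q, rfl⟩)
  obtain ⟨V, hVU, hV, hxV, hsV⟩ := hs _ hxU
  obtain ⟨g, hg, hxg⟩ := hU.exists_basicOpen_le ⟨_, hxV⟩ hxU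
  have hgm : g ∉ m := by
    have h : q ∈ hU.fromSpec ⁻¹ᵁ S.basicOpen g := hxg
    rwa [hU.fromSpec_preimage_basicOpen] at h
  have hsD := P.res_mem hg hsV
  rw [ares_ares] at hsD
  obtain ⟨n, a, ha, he⟩ := P.lift_mem U hU g hsD
  letI := (B.presheaf.map (homOfLE (S.basicOpen_le g)).op).hom.toAlgebra
  haveI : IsLocalization.Away (B.str.app (op U) g) (B.presheaf.obj (op (S.basicOpen g))) :=
    B.isQC U hU g
  rw [← map_pow, ← ares_str, ← map_mul] at he
  obtain ⟨⟨_, l, rfl⟩, hl⟩ := (IsLocalization.eq_iff_exists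
    (Submonoid.powers (B.str.app (op U) g)) (B.presheaf.obj (op (S.basicOpen g)))).1 he
  refine hgm (hm.isPrime.mem_of_pow_mem (l + n) (hIm ?_))
  show B.str.app (op U) (g ^ (l + n)) * s ∈ P.G U
  have hl' : B.str.app (op U) g ^ l * a = B.str.app (op U) g ^ l * (B.str.app (op U) (g ^ n) * s) := hl
  rw [pow_add, map_mul, mul_assoc, map_pow _ g l, ← hl', ← map_pow]
  exact mul_mem (P.str_mem _ _) ha

/-- The presheaf of the subalgebra. -/
def SubSys.psh : TopCat.Presheaf CommRingCat.{u} S.carrier where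
  obj U := CommRingCat.of (P.loc U.unop)
  map {V W} i := CommRingCat.ofHom
    ((B.presheaf.map i).hom.restrict _ _ fun s hs => P.loc_res (leOfHom i.unop) hs)
  map_id U := by
    ext s
    exact ConcreteCategory.congr_hom (B.presheaf.map_id U) s.1
  map_comp i j := by
    ext s
    exact ConcreteCategory.congr_hom (B.presheaf.map_comp i j) s.1

lemma SubSys.psh_val {U V : (Opens S.carrier)ᵒᵖ} (i : U ⟶ V) (s : P.psh.obj U) :
    (P.psh.map i s).1 = B.presheaf.map i s.1 := rfl

theorem SubSys.psh_isSheaf : P.psh.IsSheaf := by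
  refine (TopCat.Presheaf.isSheaf_iff_isSheafUniqueGluing _).2 fun ι U sf hsf => ?_
  obtain ⟨t, ht, htu⟩ := B.isSheaf.isSheafUniqueGluing U (fun i => (sf i).1)
    (fun i j => congrArg Subtype.val (hsf i j))
  have htm : t ∈ P.loc (iSup U) := fun x hx => by
    obtain ⟨i, hi⟩ := Opens.mem_iSup.1 hx
    obtain ⟨V, hV, hVa, hxV, hs⟩ := (sf i).2 x hi
    refine ⟨V, hV.trans (le_iSup U i), hVa, hxV, ?_⟩
    have hti : ares B (le_iSup U i) t = (sf i).1 := ht i
    rw [← hti, ares_ares] at hs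
    exact hs
  exact ⟨⟨t, htm⟩, fun i => Subtype.ext (ht i),
    fun t' ht' => Subtype.ext (htu _ fun i => congrArg Subtype.val (ht' i))⟩

/-- The structure map of the subalgebra. -/
def SubSys.pshStr : S.presheaf ⟶ P.psh where
  app U := CommRingCat.ofHom
    ((B.str.app U).hom.codRestrict _ fun r => P.mem_loc_of_mem (P.str_mem _ r))
  naturality U V i := by
    ext r
    exact Subtype.ext (ConcreteCategory.congr_hom (B.str.naturality i) r)

theorem SubSys.psh_isQC : RelSpec.IsQC P.psh P.pshStr := by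
  intro U hU g
  letI := (P.psh.map (homOfLE (S.basicOpen_le g)).op).hom.toAlgebra
  have hu : IsUnit (algebraMap (P.psh.obj (op U)) (P.psh.obj (op (S.basicOpen g)))
      (P.pshStr.app (op U) g)) := by
    rw [RingHom.algebraMap_toAlgebra]
    rw [show (P.psh.map (homOfLE (S.basicOpen_le g)).op).hom (P.pshStr.app (op U) g) =
      P.pshStr.app (op (S.basicOpen g)) (ores (S.basicOpen_le g) g) from
        (ConcreteCategory.congr_hom (P.pshStr.naturality (homOfLE (S.basicOpen_le g)).op) g).symm]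
    exact (S.toRingedSpace.isUnit_res_basicOpen g).map _
  refine IsLocalization.Away.mk _ hu ?_ ?_
  · intro z
    have hy : z.1 ∈ P.G (S.basicOpen g) := P.loc_eq (hU.basicOpen g) ▸ z.2
    obtain ⟨n, a, ha, he⟩ := P.lift_mem U hU g hy
    refine ⟨n, ⟨a, P.mem_loc_of_mem ha⟩, Subtype.ext ?_⟩
    show z.1 * ares B (S.basicOpen_le g) (B.str.app (op U) g) ^ n = ares B (S.basicOpen_le g) a
    rw [he, ares_str, map_pow, mul_comm]
  · intro a b h
    have h' : ares B (S.basicOpen_le g) a.1 = ares B (S.basicOpen_le g) b.1 :=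
      congrArg Subtype.val h
    letI := (B.presheaf.map (homOfLE (S.basicOpen_le g)).op).hom.toAlgebra
    haveI : IsLocalization.Away (B.str.app (op U) g) (B.presheaf.obj (op (S.basicOpen g))) :=
      B.isQC U hU g
    obtain ⟨⟨_, l, rfl⟩, hl⟩ := (IsLocalization.eq_iff_exists
      (Submonoid.powers (B.str.app (op U) g)) (B.presheaf.obj (op (S.basicOpen g)))).1 h'
    exact ⟨l, Subtype.ext hl⟩

/-- The quasi-coherent subalgebra. -/
def SubSys.alg : RelSpec.QCAlg S where
  presheaf := P.psh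
  isSheaf := P.psh_isSheaf
  str := P.pshStr
  isQC := P.psh_isQC

/-- The inclusion of the subalgebra. -/
def SubSys.incl : P.alg ⟶ B where
  hom :=
    { app := fun U => CommRingCat.ofHom (P.loc U.unop).subtype
      naturality := fun U V i => by ext s; rfl }
  comm := by ext U r; rfl

lemma SubSys.incl_injective (U : S.Opens) : Function.Injective (P.incl.hom.app (op U)) :=
  fun (x y : P.loc U) h => Subtype.ext h

section gen

variable (B)
variable (E : S.Modules) (j : E ⟶ B.toModule)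

lemma gen_res {V W : S.Opens} (h : W ≤ V) {s : B.presheaf.obj (op V)} (hs : s ∈ gen B E j V) :
    ares B h s ∈ gen B E j W := by
  have : gen B E j V ≤ (gen B E j W).comap (ares B h) := by
    refine Subring.closure_le.2 ?_
    rintro x (⟨r, rfl⟩ | ⟨e, rfl⟩)
    · show ares B h (B.str.app (op V) r) ∈ gen B E j W
      rw [ares_str]
      exact Subring.subset_closure (Or.inl ⟨_, rfl⟩)
    · refine Subring.subset_closure (Or.inr ⟨mres E h e, ?_⟩)
      exact (app_nat j h e).symm
  exact this hs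

lemma gen_lift [E.IsQuasicoherent] (U : S.Opens) (hU : IsAffineOpen U) (g : Γ(S, U))
    {y : B.presheaf.obj (op (S.basicOpen g))} (hy : y ∈ gen B E j (S.basicOpen g)) :
    ∃ (n : ℕ) (a : B.presheaf.obj (op U)), a ∈ gen B E j U ∧
      ares B (S.basicOpen_le g) a =
        B.str.app (op (S.basicOpen g)) (ores (S.basicOpen_le g) g ^ n) * y := by
  have hle : S.basicOpen g ≤ U := S.basicOpen_le g
  induction hy using Subring.closure_induction with
  | mem x hx =>
    rcases hx with ⟨r, rfl⟩ | ⟨z, rfl⟩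
    · haveI := hU.isLocalization_basicOpen g
      obtain ⟨n, c, hc⟩ := IsLocalization.Away.surj g r
      refine ⟨n, B.str.app (op U) c, Subring.subset_closure (Or.inl ⟨c, rfl⟩), ?_⟩
      rw [ares_str, ← map_mul]
      congr 1
      exact hc.symm.trans (mul_comm _ _)
    · obtain ⟨n, z', hz⟩ := exists_pow_smul_eq_mres E hU g rfl hle z
      refine ⟨n, j.app U z', Subring.subset_closure (Or.inr ⟨z', rfl⟩), ?_⟩
      show mres B.toModule hle (j.app U z') = (ores hle g ^ n) • j.app _ z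
      rw [app_nat, hz, Scheme.Modules.Hom.app_smul]
  | zero => exact ⟨0, 0, zero_mem _, by simp⟩
  | one => exact ⟨0, 1, one_mem _, by simp⟩
  | add y y' _ _ iy iy' =>
    obtain ⟨n, a, ha, e⟩ := iy
    obtain ⟨n', a', ha', e'⟩ := iy'
    refine ⟨n + n', B.str.app (op U) (g ^ n') * a + B.str.app (op U) (g ^ n) * a',
      add_mem (mul_mem (Subring.subset_closure (Or.inl ⟨_, rfl⟩)) ha)
        (mul_mem (Subring.subset_closure (Or.inl ⟨_, rfl⟩)) ha'), ?_⟩
    rw [map_add, map_mul, map_mul, ares_str, ares_str, e, e']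
    simp only [map_pow]
    ring
  | neg y _ iy =>
    obtain ⟨n, a, ha, e⟩ := iy
    exact ⟨n, -a, neg_mem ha, by rw [map_neg, e, mul_neg]⟩
  | mul y y' _ _ iy iy' =>
    obtain ⟨n, a, ha, e⟩ := iy
    obtain ⟨n', a', ha', e'⟩ := iy'
    refine ⟨n + n', a * a', mul_mem ha ha', ?_⟩
    rw [map_mul, e, e', pow_add, map_mul]
    ring

/-- The subalgebra system generated by a quasi-coherent module. -/
def genSys [E.IsQuasicoherent] : SubSys B where
  G := gen B E j
  str_mem _ r := Subring.subset_closure (Or.inl ⟨r, rfl⟩)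
  res_mem h _ hs := gen_res B E j h hs
  lift_mem U hU g _ hy := gen_lift B E j U hU g hy

end gen

end Groth.Agent.QCohExt
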