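import Groth.Agent.QCohExt.Basic
import Groth.Agent.SerreAff.Relative

/-!
# Exactness on global sections from vanishing of `H¹` of finite type ideals
-/

noncomputable section

universe u

open CategoryTheory Limits AlgebraicGeometry Opposite TopologicalSpace Groth.Agent.QCohBase

namespace Groth.Agent.QCohExt

variable {X : Scheme.{u}} [CompactSpace X] [QuasiSeparatedSpace X]

theorem idealExactOn_top_of_FT
    (h : ∀ (I : X.Modules) (i : I ⟶ Coh.structureModule X), Mono i →
      Coh.IsQCoh I → CohB1.IsFT I → Subsingleton (Coh.HH X I 1)) :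
    SerreAff.IdealExactOn (⊤ : X.Opens) := by
  intro T hT i hi hI q
  haveI := hi
  haveI := hI
  haveI := hT.mono_f
  obtain ⟨ι, _, V, hV, hcov⟩ := exists_finite_affine_cover' X
  choose t ht using fun k => sections_surjective_affine hT hI (hV k) (mres T.X₃ (le_top : V k ≤ ⊤) q)
  have hcomp : ∀ k l, IsCompact ((V k ⊓ V l : X.Opens) : Set X) := fun k l =>
    QuasiSeparatedSpace.inter_isCompact _ _ (V k).2 (hV k).isCompact (V l).2 (hV l).isCompact
  choose κ hκ A hA hAle hAcov using fun k l => exists_finite_affine_cover (hcomp k l)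
  have hdiff : ∀ (p : Σ k, Σ l, κ k l), ∃ a, T.f.app (A p.1 p.2.1 p.2.2) a =
      mres T.X₂ ((hAle p.1 p.2.1 p.2.2).trans inf_le_left) (t p.1) -
        mres T.X₂ ((hAle p.1 p.2.1 p.2.2).trans inf_le_right) (t p.2.1) := fun p => by
    refine sections_exact_left hT.exact _ ?_
    rw [map_sub, ← app_nat, ← app_nat, ht, ht, mres_mres, mres_mres, sub_self]
  choose a ha using hdiff
  haveI : ∀ k, Finite (Σ l, κ k l) := fun k => inferInstance
  haveI : Finite (Σ k, Σ l, κ k l) := inferInstance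
  cases nonempty_fintype (Σ k, Σ l, κ k l)
  let e := (Fintype.equivFin (Σ k, Σ l, κ k l)).symm
  obtain ⟨J, j, hj, hJq, hJF, hJs⟩ := exists_sub_through T.X₁ (Fintype.card (Σ k, Σ l, κ k l))
    (fun n => A (e n).1 (e n).2.1 (e n).2.2) (fun n => hA _ _ _) (fun n => a (e n))
  haveI := hj
  haveI := hJq
  have hH : Subsingleton (Coh.HH X J 1) := h J (j ≫ i) (mono_comp _ _) hJq (isFT_of_FTOn_top J hJF)
  haveI : Mono (j ≫ T.f) := mono_comp _ _
  let T' : ShortComplex X.Modules := ShortComplex.mk (j ≫ T.f) (cokernel.π _) (cokernel.condition _)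
  have hT' : T'.ShortExact :=
    { exact := ShortComplex.exact_of_g_is_cokernel _ (cokernelIsCokernel _)
      mono_f := inferInstanceAs (Mono (j ≫ T.f))
      epi_g := inferInstanceAs (Epi (cokernel.π _)) }
  obtain ⟨q', hq', -⟩ := TopCat.Sheaf.existsUnique_gluing' ⟨T'.X₃.presheaf, T'.X₃.isSheaf⟩ V ⊤
    (fun k => homOfLE le_top) (fun x _ => Opens.mem_iSup.2 (hcov x)) (fun k => T'.g.app (V k) (t k))
    (fun k l => by
      show mres T'.X₃ (inf_le_left : V k ⊓ V l ≤ V k) (T'.g.app (V k) (t k)) =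
        mres T'.X₃ (inf_le_right : V k ⊓ V l ≤ V l) (T'.g.app (V l) (t l))
      rw [app_nat, app_nat]
      refine eq_of_iSup_le T'.X₃ (A k l) (hAle k l) (hAcov k l) _ _ fun m => ?_
      rw [app_nat, app_nat, mres_mres, mres_mres, ← sub_eq_zero, ← map_sub]
      obtain ⟨n, hn⟩ := e.surjective ⟨k, l, m⟩
      have hmem := hJs n
      rw [hn] at hmem
      obtain ⟨b, hb⟩ := hmem
      rw [← ha ⟨k, l, m⟩, ← hb, ← ConcreteCategory.comp_apply, ← ConcreteCategory.comp_apply,
        ← Scheme.Modules.Hom.comp_app, ← Scheme.Modules.Hom.comp_app, ← Category.assoc]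
      show (T'.f ≫ T'.g).app _ b = 0
      rw [T'.zero]
      rfl)
  obtain ⟨s, hs⟩ := SerreAff.sections_surjective_of_H1 hT' hH q'
  refine ⟨s, eq_of_iSup_le T.X₃ V (fun k => le_top) (fun x _ => Opens.mem_iSup.2 (hcov x)) _ _ fun k => ?_⟩
  rw [app_nat, ← ht k, ← sub_eq_zero, ← map_sub]
  have h0 : T'.g.app (V k) (mres T.X₂ (le_top : V k ≤ ⊤) s - t k) = 0 := by
    rw [map_sub, sub_eq_zero]
    refine Eq.trans ?_ (hq' k)
    show _ = mres T'.X₃ le_top q'
    rw [← hs, app_nat]
  obtain ⟨b, hb⟩ := sections_exact_left (T := T') hT'.exact _ h0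
  rw [← hb, ← ConcreteCategory.comp_apply, ← Scheme.Modules.Hom.comp_app]
  show ((j ≫ T.f) ≫ T.g).app _ b = 0
  rw [Category.assoc, T.zero, comp_zero]
  rfl

end Groth.Agent.QCohExt
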