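import Groth.Agent.QCohExt.SubAlg
import Groth.Agent.QCohExt.LocNoeth

/-!
# Finite type subalgebras
-/

noncomputable section

universe u

open CategoryTheory Limits AlgebraicGeometry Opposite TopologicalSpace Groth.Agent.QCohBase

namespace Groth.Agent.QCohExt

variable {S : Scheme.{u}} {B : RelSpec.QCAlg S}

/-- A subalgebra generated by a finite type module is of finite type. -/
theorem finiteType_str_loc (E : S.Modules) (j : E ⟶ B.toModule) [E.IsQuasicoherent] {U : S.Opens}
    (hU : IsAffineOpen U) [Module.Finite Γ(S, U) Γ(E, U)] :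
    ((genSys B E j).alg.str.app (op U)).hom.FiniteType := by
  classical
  let R := (genSys B E j).alg.presheaf.obj (op U)
  letI : Algebra Γ(S, U) R := ((genSys B E j).alg.str.app (op U)).hom.toAlgebra
  obtain ⟨s, hs⟩ := Module.Finite.fg_top (R := Γ(S, U)) (M := Γ(E, U))
  let jm : Γ(E, U) → R := fun e =>
    (⟨j.app U e, (genSys B E j).mem_loc_of_mem (Subring.subset_closure (Or.inr ⟨e, rfl⟩))⟩ :
      (genSys B E j).loc U)
  refine (⟨⟨s.image jm, eq_top_iff.2 fun x _ => ?_⟩⟩ : Algebra.FiniteType Γ(S, U) R)
  let M := Algebra.adjoin Γ(S, U) ((s.image jm : Finset R) : Set R)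
  let Mv : Subring (B.presheaf.obj (op U)) := M.toSubring.map ((genSys B E j).incl.hom.app (op U)).hom
  have hle : gen B E j U ≤ Mv := by
    refine Subring.closure_le.2 ?_
    rintro y (⟨r, rfl⟩ | ⟨e, rfl⟩)
    · exact ⟨_, M.algebraMap_mem r, rfl⟩
    · have key : ∀ a : Γ(E, U), a ∈ Submodule.span Γ(S, U) (s : Set Γ(E, U)) → jm a ∈ M := by
        intro a ha
        induction ha using Submodule.span_induction with
        | mem a ha =>
          exact Algebra.subset_adjoin (Finset.mem_coe.2 (Finset.mem_image_of_mem jm ha))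
        | zero =>
          have h : jm 0 = 0 := Subtype.ext (map_zero (j.app U).hom)
          rw [h]; exact zero_mem _
        | add a b _ _ iha ihb =>
          have h : jm (a + b) = jm a + jm b := Subtype.ext (map_add (j.app U).hom a b)
          rw [h]; exact add_mem iha ihb
        | smul r a _ iha =>
          have h : jm (r • a) = algebraMap Γ(S, U) R r * jm a :=
            Subtype.ext (Scheme.Modules.Hom.app_smul ..)
          rw [h]; exact mul_mem (M.algebraMap_mem r) iha
      exact ⟨jm e, key e (hs ▸ Submodule.mem_top), rfl⟩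
  have hxv : ((genSys B E j).incl.hom.app (op U)).hom x ∈ gen B E j U :=
    ((genSys B E j).loc_eq hU).le (x : (genSys B E j).loc U).2
  obtain ⟨z, hz, he⟩ := hle hxv
  exact (genSys B E j).incl_injective U he ▸ hz

/-- The finite type subalgebra through a section, given a finite type submodule through it. -/
theorem exists_subalgebra_of_submodule (E : S.Modules) (j : E ⟶ B.toModule) [E.IsQuasicoherent]
    (hE : ∀ V : S.Opens, IsAffineOpen V → Module.Finite Γ(S, V) Γ(E, V))
    (U : S.Opens) (b : B.presheaf.obj (op U)) (hb : b ∈ Set.range (j.app U)) :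
    ∃ (B' : RelSpec.QCAlg S) (φ : B' ⟶ B),
      (∀ V : S.Opens, Function.Injective (φ.hom.app (op V)).hom) ∧
      (∀ V : S.affineOpens, (B'.str.app (op (V : S.Opens))).hom.FiniteType) ∧
      b ∈ Set.range (φ.hom.app (op U)).hom := by
  obtain ⟨e, rfl⟩ := hb
  exact ⟨(genSys B E j).alg, (genSys B E j).incl, (genSys B E j).incl_injective,
    fun V => haveI := hE _ V.2; finiteType_str_loc E j V.2,
    (⟨j.app U e, (genSys B E j).mem_loc_of_mem (Subring.subset_closure (Or.inr ⟨e, rfl⟩))⟩ :
      (genSys B E j).loc U), rfl⟩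

/-- Finite type subalgebras through a section, locally Noetherian space. -/
theorem exists_subalgebra_locNoeth
    (hX : ∀ x : S, ∃ U : S.Opens, x ∈ U ∧ NoetherianSpace (U : Set S))
    (U : S.affineOpens) (b : B.presheaf.obj (op (U : S.Opens))) :
    ∃ (B' : RelSpec.QCAlg S) (φ : B' ⟶ B),
      (∀ V : S.Opens, Function.Injective (φ.hom.app (op V)).hom) ∧
      (∀ V : S.affineOpens, (B'.str.app (op (V : S.Opens))).hom.FiniteType) ∧
      b ∈ Set.range (φ.hom.app (op (U : S.Opens))).hom := by
  haveI := isQuasicoherent_toModule B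
  obtain ⟨E, j, hm, hq, hF, hb⟩ := exists_sub_through_section hX B.toModule U.2
    (show Γ(B.toModule, U.1) from b)
  haveI := hq
  exact exists_subalgebra_of_submodule E j (fun V hV => finite_sections E hF hV) U b hb

/-- Finite type subalgebras through a section, qcqs scheme. -/
theorem exists_subalgebra_qcqs [CompactSpace S] [QuasiSeparatedSpace S]
    (U : S.affineOpens) (b : B.presheaf.obj (op (U : S.Opens))) :
    ∃ (B' : RelSpec.QCAlg S) (φ : B' ⟶ B),
      (∀ V : S.Opens, Function.Injective (φ.hom.app (op V)).hom) ∧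
      (∀ V : S.affineOpens, (B'.str.app (op (V : S.Opens))).hom.FiniteType) ∧
      b ∈ Set.range (φ.hom.app (op (U : S.Opens))).hom := by
  haveI := isQuasicoherent_toModule B
  obtain ⟨E, j, hm, hq, hF, hb⟩ := exists_sub_through B.toModule 1 (fun _ => U.1) (fun _ => U.2)
    (fun _ => (show Γ(B.toModule, U.1) from b))
  haveI := hq
  exact exists_subalgebra_of_submodule E j (fun V hV => hF V hV le_top) U b (hb 0)

end Groth.Agent.QCohExt
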